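import Mathlib

/-!
# Invariants of tame finite group actions
-/

set_option autoImplicit false
noncomputable section

open TensorProduct

universe u v w w'

namespace Groth.Agent.TameFix

variable {A : Type u} [CommRing A] {Γ : Type v} [Group Γ] [Fintype Γ]

section Module

variable {M : Type w} [AddCommGroup M] [Module A M] [DistribMulAction Γ M] [SMulCommClass Γ A M]

/-- Averaging. -/
def avg (u : A) : M →ₗ[A] M := u • ∑ γ : Γ, DistribMulAction.toLinearMap A M γ

theorem avg_apply (u : A) (x : M) : avg (Γ := Γ) u x = u • ∑ γ : Γ, γ • x := by simp [avg]; rfl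

theorem avg_fixed (u : A) (x : M) (δ : Γ) : δ • avg (Γ := Γ) u x = avg (Γ := Γ) u x := by
  rw [avg_apply, smul_comm, Finset.smul_sum]
  congr 1
  rw [← Equiv.sum_comp (Equiv.mulLeft δ) fun γ : Γ => γ • x]
  exact Finset.sum_congr rfl fun γ _ => (mul_smul δ γ x).symm

theorem avg_of_fixed {u : A} (hu : u * (Nat.card Γ : A) = 1) {x : M} (hx : ∀ γ : Γ, γ • x = x) :
    avg (Γ := Γ) u x = x := by
  rw [avg_apply, Finset.sum_congr rfl fun γ _ => hx γ, Finset.sum_const, Finset.card_univ, ← Nat.cast_smul_eq_nsmul A,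
    smul_smul, ← Nat.card_eq_fintype_card, hu, one_smul]

end Module

omit [Fintype Γ] in
theorem exists_fixed_preimage [Finite Γ] (hΓ : IsUnit (Nat.card Γ : A)) {M : Type w} [AddCommGroup M] [Module A M]
    [DistribMulAction Γ M] [SMulCommClass Γ A M] {N : Type w'} [AddCommGroup N] [Module A N] [DistribMulAction Γ N]
    [SMulCommClass Γ A N] (f : M →ₗ[A] N) (hf : ∀ (γ : Γ) (m : M), f (γ • m) = γ • f m) (hsurj : Function.Surjective f)
    (n : N) (hn : ∀ γ : Γ, γ • n = n) : ∃ m : M, (∀ γ : Γ, γ • m = m) ∧ f m = n := by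
  classical
  haveI := Fintype.ofFinite Γ
  obtain ⟨u, hu⟩ := hΓ.exists_left_inv
  obtain ⟨m, rfl⟩ := hsurj n
  refine ⟨avg (Γ := Γ) u m, fun γ => avg_fixed u m γ, ?_⟩
  rw [← avg_of_fixed hu hn, avg_apply, avg_apply, map_smul, map_sum]
  exact congrArg _ (Finset.sum_congr rfl fun γ _ => hf γ m)

omit [Fintype Γ] in
theorem reduction [Finite Γ] (hΓ : IsUnit (Nat.card Γ : A)) {M : Type w} [AddCommGroup M] [Module A M]
    [DistribMulAction Γ M] [SMulCommClass Γ A M] (I : Ideal A) :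
    (∀ x : M, (∀ γ : Γ, γ • x - x ∈ I • (⊤ : Submodule A M)) →
      ∃ y : M, (∀ γ : Γ, γ • y = y) ∧ x - y ∈ I • (⊤ : Submodule A M)) ∧
    ∀ y : M, (∀ γ : Γ, γ • y = y) → y ∈ I • (⊤ : Submodule A M) →
      y ∈ I • Submodule.span A {m : M | ∀ γ : Γ, γ • m = m} := by
  classical
  haveI := Fintype.ofFinite Γ
  obtain ⟨u, hu⟩ := hΓ.exists_left_inv
  refine ⟨fun x hx => ⟨avg (Γ := Γ) u x, fun γ => avg_fixed u x γ, ?_⟩, fun y hy hyI => ?_⟩
  · have e : x - avg (Γ := Γ) u x = u • ∑ γ : Γ, (x - γ • x) := by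
      rw [Finset.sum_sub_distrib, smul_sub, avg_apply, Finset.sum_const, Finset.card_univ, ← Nat.cast_smul_eq_nsmul A,
        smul_smul, ← Nat.card_eq_fintype_card, hu, one_smul]
    rw [e]
    exact Submodule.smul_mem _ _ (Submodule.sum_mem _ fun γ _ => by simpa using neg_mem (hx γ))
  · rw [← avg_of_fixed hu hy]
    refine Submodule.smul_induction_on hyI (fun a ha m _ => ?_) (fun a c ha hc => ?_)
    · rw [map_smul]
      exact Submodule.smul_mem_smul ha (Submodule.subset_span fun γ => avg_fixed u m γ)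
    · rw [map_add]; exact add_mem ha hc

omit [Fintype Γ] in
theorem base_change [Finite Γ] {R : Type w} [CommRing R] [Algebra A R] [MulSemiringAction Γ R] [SMulCommClass Γ A R]
    [Algebra.IsInvariant A R Γ] (hinj : Function.Injective (algebraMap A R)) (hΓ : IsUnit (Nat.card Γ : R))
    {S : Type w'} [CommRing S] [Algebra A S] : Function.Injective (fun s : S => s ⊗ₜ[A] (1 : R)) ∧
    ∀ x : S ⊗[A] R, (∀ γ : Γ, Algebra.TensorProduct.map (AlgHom.id A S) (MulSemiringAction.toAlgHom A R γ) x = x) →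
      x ∈ Set.range (fun s : S => s ⊗ₜ[A] (1 : R)) := by
  classical
  haveI := Fintype.ofFinite Γ
  have hsum : ∀ (r : R) (δ : Γ), δ • ∑ γ : Γ, γ • r = ∑ γ : Γ, γ • r := fun r δ => by
    rw [Finset.smul_sum, ← Equiv.sum_comp (Equiv.mulLeft δ) fun γ : Γ => γ • r]
    exact Finset.sum_congr rfl fun γ _ => (mul_smul δ γ r).symm
  choose tr htr using fun r : R => Algebra.IsInvariant.isInvariant (A := A) (G := Γ) (∑ γ : Γ, γ • r) (hsum r)
  let T : R →ₗ[A] A :=
    { toFun := tr
      map_add' := fun a b => hinj (by rw [map_add, htr, htr, htr, ← Finset.sum_add_distrib]; simp only [smul_add])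
      map_smul' := fun a b => hinj (by
        rw [RingHom.id_apply, smul_eq_mul, map_mul, htr, htr, Finset.mul_sum]
        exact Finset.sum_congr rfl fun γ _ => by rw [smul_comm, Algebra.smul_def]) }
  obtain ⟨w, hw⟩ := hΓ.exists_left_inv
  have hwfix : ∀ γ : Γ, γ • w = w := fun γ => by
    refine hΓ.mul_left_injective ?_
    show γ • w * (Nat.card Γ : R) = w * (Nat.card Γ : R)
    rw [hw, ← smul_one γ, ← hw, smul_mul']
    congr 1
    exact (map_natCast (MulSemiringAction.toRingHom Γ R γ) _).symm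
  obtain ⟨u, hu⟩ := Algebra.IsInvariant.isInvariant (A := A) (G := Γ) w hwfix
  have huA : u * (Nat.card Γ : A) = 1 := hinj (by rw [map_mul, map_natCast, hu, hw, map_one])
  have hT1 : T 1 = (Nat.card Γ : A) := hinj (by
    show algebraMap A R (tr 1) = _
    rw [htr, map_natCast, Finset.sum_congr rfl fun γ _ => smul_one γ, Finset.sum_const, Finset.card_univ,
      Nat.card_eq_fintype_card, nsmul_one])
  let back : S ⊗[A] R →ₗ[A] S := u • ((TensorProduct.rid A S).toLinearMap ∘ₗ T.lTensor S)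
  have hback : ∀ s : S, back (s ⊗ₜ[A] (1 : R)) = s := fun s => by
    simp [back, hT1, smul_smul]
    rw [← Nat.card_eq_fintype_card, huA, one_smul]
  refine ⟨fun a b h => by rw [← hback a, ← hback b]; exact congrArg back h, fun x hx => ⟨back x, ?_⟩⟩
  have key : ∀ z : S ⊗[A] R, back z ⊗ₜ[A] (1 : R) =
      u • ∑ γ : Γ, Algebra.TensorProduct.map (AlgHom.id A S) (MulSemiringAction.toAlgHom A R γ) z := fun z => by
    induction z using TensorProduct.induction_on with
    | zero => simp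
    | add a b ha hb => simp only [map_add, TensorProduct.add_tmul, ha, hb, Finset.sum_add_distrib, smul_add]
    | tmul s r =>
      simp only [back, LinearMap.smul_apply, LinearMap.comp_apply, LinearMap.lTensor_tmul, LinearEquiv.coe_coe,
        TensorProduct.rid_tmul, Algebra.TensorProduct.map_tmul, AlgHom.id_apply, MulSemiringAction.toAlgHom_apply]
      rw [show T r = tr r from rfl, ← TensorProduct.tmul_sum, ← htr, TensorProduct.smul_tmul', ← TensorProduct.smul_tmul' u (tr r • s),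
        TensorProduct.smul_tmul (tr r), Algebra.algebraMap_eq_smul_one, ← TensorProduct.smul_tmul']
  show back x ⊗ₜ[A] (1 : R) = x
  rw [key, Finset.sum_congr rfl fun γ _ => hx γ, Finset.sum_const, Finset.card_univ, ← Nat.cast_smul_eq_nsmul A,
    smul_smul, ← Nat.card_eq_fintype_card, huA, one_smul]

omit [Fintype Γ] in
theorem decomposition {B : Type w} [CommRing B] [Finite Γ] [MulSemiringAction Γ B] (P : Ideal B) [hP : P.IsMaximal]
    (x : B) (hx : ∀ γ : Γ, (∀ y : B, y ∈ P ↔ γ • y ∈ P) → γ • x = x) :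
    ∃ c : B, (∀ γ : Γ, γ • c = c) ∧ x - c ∈ P := by
  classical
  haveI := Fintype.ofFinite Γ
  let D : Subgroup Γ :=
    { carrier := {γ | ∀ y : B, y ∈ P ↔ γ • y ∈ P}
      one_mem' := fun y => by rw [one_smul]
      mul_mem' := fun {a b} ha hb y => by rw [mul_smul]; exact (hb y).trans (ha _)
      inv_mem' := fun {a} ha y => by rw [ha (a⁻¹ • y), smul_inv_smul] }
  let Q : Γ → Ideal B := fun γ => P.comap (MulSemiringAction.toRingHom Γ B γ)
  have hQmax : ∀ γ, (Q γ).IsMaximal := fun γ => Ideal.comap_isMaximal_of_surjective _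
    (fun y => ⟨γ⁻¹ • y, smul_inv_smul γ y⟩)
  have hQ : ∀ γ, γ ∉ D → ∃ e ∈ Q γ, e - 1 ∈ P := fun γ hγ => by
    have hne : Q γ ≠ P := fun e => hγ fun y => by
      conv_lhs => rw [← e]
      exact Iff.rfl
    obtain ⟨a, ha, b, hb, hab⟩ := Submodule.mem_sup.1
      ((eq_top_iff.1 ((hQmax γ).coprime_of_ne hP hne)) (trivial : (1 : B) ∈ (⊤ : Ideal B)))
    have e : a - 1 = -b := by rw [show (1 : B) = a + b from hab.symm]; abel
    exact ⟨a, ha, e ▸ neg_mem hb⟩
  choose e he he1 using fun γ => fun h : γ ∉ D => hQ γ h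
  let g : Γ → B := fun γ => if h : γ ∉ D then e γ h else 1
  have hg : ∀ γ, g γ - 1 ∈ P := fun γ => by
    by_cases h : γ ∉ D
    · rw [show g γ = e γ h from dif_pos h]; exact he1 γ h
    · rw [show g γ = 1 from dif_neg h, sub_self]; exact P.zero_mem
  let d : B := ∏ γ : Γ, g γ
  have hd1 : Ideal.Quotient.mk P d = 1 := by
    rw [map_prod, Finset.prod_eq_one fun γ _ => ?_]
    rw [← map_one (Ideal.Quotient.mk P), Ideal.Quotient.eq]; exact hg γ
  have hd0 : ∀ γ, γ ∉ D → γ • d ∈ P := fun γ hγ => by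
    rw [Finset.smul_prod', ← Ideal.Quotient.eq_zero_iff_mem, map_prod]
    refine Finset.prod_eq_zero (Finset.mem_univ γ) (Ideal.Quotient.eq_zero_iff_mem.2 ?_)
    rw [show g γ = e γ hγ from dif_pos hγ]
    exact he γ hγ
  let z : B := x * ∏ δ : D, (δ : Γ) • d
  have hz1 : z - x ∈ P := by
    rw [← Ideal.Quotient.eq, map_mul, map_prod, Finset.prod_eq_one fun δ _ => ?_, mul_one]
    rw [← map_one (Ideal.Quotient.mk P), Ideal.Quotient.eq, ← smul_one (δ : Γ), ← smul_sub]
    exact (δ.2 _).1 ((Ideal.Quotient.eq (I := P)).1 (hd1.trans (map_one _).symm))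
  have hzD : ∀ δ ∈ D, δ • z = z := fun δ hδ => by
    show δ • (x * ∏ η : D, (η : Γ) • d) = x * ∏ η : D, (η : Γ) • d
    rw [smul_mul', hx δ hδ, Finset.smul_prod', ← Equiv.prod_comp (Equiv.mulLeft (⟨δ, hδ⟩ : D)) fun η : D => (η : Γ) • d]
    exact congrArg _ (Finset.prod_congr rfl fun η _ => (mul_smul δ _ d).symm)
  have hz0 : ∀ γ, γ ∉ D → γ • z ∈ P := fun γ hγ => by
    show γ • (x * ∏ η : D, (η : Γ) • d) ∈ P
    rw [smul_mul', Finset.smul_prod']
    refine P.mul_mem_left _ ?_
    rw [← Ideal.Quotient.eq_zero_iff_mem, map_prod]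
    refine Finset.prod_eq_zero (Finset.mem_univ (1 : D)) (Ideal.Quotient.eq_zero_iff_mem.2 ?_)
    rw [← mul_smul, OneMemClass.coe_one, mul_one]
    exact hd0 γ hγ
  have hsame : ∀ a b : Γ, (a : Γ ⧸ D) = b → a • z = b • z := fun a b h => by
    conv_rhs => rw [show b = a * (a⁻¹ * b) by group, mul_smul, hzD _ (QuotientGroup.eq.1 h)]
  refine ⟨∑ q : Γ ⧸ D, q.out • z, fun γ => ?_, ?_⟩
  · rw [Finset.smul_sum, ← Equiv.sum_comp (MulAction.toPerm γ) fun q : Γ ⧸ D => q.out • z]
    refine Finset.sum_congr rfl fun q _ => ?_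
    rw [← mul_smul]
    refine hsame _ _ ?_
    rw [MulAction.toPerm_apply, QuotientGroup.out_eq']
    conv_rhs => rw [← QuotientGroup.out_eq' q]
    rfl
  · rw [← Ideal.Quotient.eq, map_sum, Finset.sum_eq_single ((1 : Γ) : Γ ⧸ D) (fun q _ hq => ?_) (by simp)]
    · rw [hsame _ 1 (QuotientGroup.out_eq' _), one_smul, Ideal.Quotient.eq]
      simpa using neg_mem hz1
    · refine Ideal.Quotient.eq_zero_iff_mem.2 (hz0 _ fun h => hq ?_)
      rw [← QuotientGroup.out_eq' q]
      exact QuotientGroup.eq.2 (by simpa using h)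

end Groth.Agent.TameFix
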